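import Cfsg.Agent.Spor.Tid.D0

set_option autoImplicit false
set_option maxRecDepth 100000000
set_option Elab.async false

namespace Cfsg.Agent.Spor.Tid

theorem ok0 : Net.okb 7 n0 = true := by decide +kernel

theorem ok1 : Net.okb 7 n1 = true := by decide +kernel

theorem ok2 : Net.okb 7 n2 = true := by decide +kernel

theorem rel0 : T.rel 7 [1, 1, 1, 1] 0 7 = true := by decide +kernel

theorem rel1 : T.rel 7 [1, 1, 2, 3, 2, 3] 0 7 = true := by decide +kernel

theorem rel2 : T.rel 7 [1, 1, 2, 6, 2, 6] 0 7 = true := by decide +kernel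

theorem rel3 : T.rel 7 [1, 3, 4, 2, 6, 5] 0 7 = true := by decide +kernel

theorem rel4 : T.rel 7 [2, 2, 2, 2] 0 7 = true := by decide +kernel

theorem rel5 : T.rel 7 [1, 5, 3, 2, 4, 6] 0 7 = true := by decide +kernel

theorem rel6 : T.rel 7 [1, 2, 6, 1, 2, 6] 0 7 = true := by decide +kernel

theorem rel7 : T.rel 7 [3, 3, 3, 3] 0 7 = true := by decide +kernel

theorem hcov : T.treeCov (ones 128) L 1 = true := by decide +kernel

theorem hg : lall (fun z => band (memL L z) (band (sub (ones 128) (T.let z).cl) (T.closed (ones 128) z))) gs = true := by decide +kernel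

theorem rot1_1 : T.rot 1 [4] (sel (ones 128) ip1 1) = true := by decide +kernel

theorem rot1_1r : band (Rule.ok (2 * 0) EX RL ⟨1 :: [4], [], 8, false⟩) (lall (memL L) [4]) = true := by decide +kernel

theorem rot1_2 : T.rot 1 [1, 1, 1] (sel (ones 128) ip1 2) = true := by decide +kernel

theorem rot1_2r : band (Rule.ok (2 * 0) EX RL ⟨1 :: [1, 1, 1], [], 0, true⟩) (lall (memL L) [1, 1, 1]) = true := by decide +kernel

theorem rot1_3 : T.rot 1 [1, 2, 3, 2, 3] (sel (ones 128) ip1 3) = true := by decide +kernel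

theorem rot1_3r : band (Rule.ok (2 * 0) EX RL ⟨1 :: [1, 2, 3, 2, 3], [], 1, true⟩) (lall (memL L) [1, 2, 3, 2, 3]) = true := by decide +kernel

theorem rot1_4 : T.rot 1 [2, 3, 2, 3, 1] (sel (ones 128) ip1 4) = true := by decide +kernel

theorem rot1_4r : band (Rule.ok (2 * 0) EX RL ⟨1 :: [2, 3, 2, 3, 1], [1], 1, true⟩) (lall (memL L) [2, 3, 2, 3, 1]) = true := by decide +kernel

theorem rot1_5 : T.rot 1 [1, 2, 6, 2, 6] (sel (ones 128) ip1 5) = true := by decide +kernel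

theorem rot1_5r : band (Rule.ok (2 * 0) EX RL ⟨1 :: [1, 2, 6, 2, 6], [], 2, true⟩) (lall (memL L) [1, 2, 6, 2, 6]) = true := by decide +kernel

theorem rot1_6 : T.rot 1 [2, 6, 2, 6, 1] (sel (ones 128) ip1 6) = true := by decide +kernel

theorem rot1_6r : band (Rule.ok (2 * 0) EX RL ⟨1 :: [2, 6, 2, 6, 1], [1], 2, true⟩) (lall (memL L) [2, 6, 2, 6, 1]) = true := by decide +kernel

theorem rot1_7 : T.rot 1 [3, 4, 2, 6, 5] (sel (ones 128) ip1 7) = true := by decide +kernel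

theorem rot1_7r : band (Rule.ok (2 * 0) EX RL ⟨1 :: [3, 4, 2, 6, 5], [], 3, true⟩) (lall (memL L) [3, 4, 2, 6, 5]) = true := by decide +kernel

theorem rot1_8 : T.rot 1 [6, 4, 2, 3, 5] (sel (ones 128) ip1 8) = true := by decide +kernel

theorem rot1_8r : band (Rule.ok (2 * 0) EX RL ⟨1 :: [6, 4, 2, 3, 5], [1, 5, 0], 3, false⟩) (lall (memL L) [6, 4, 2, 3, 5]) = true := by decide +kernel

theorem rot1_9 : T.rot 1 [5, 3, 2, 4, 6] (sel (ones 128) ip1 9) = true := by decide +kernel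

theorem rot1_9r : band (Rule.ok (2 * 0) EX RL ⟨1 :: [5, 3, 2, 4, 6], [], 5, true⟩) (lall (memL L) [5, 3, 2, 4, 6]) = true := by decide +kernel

theorem rot1_10 : T.rot 1 [5, 6, 2, 4, 3] (sel (ones 128) ip1 10) = true := by decide +kernel

theorem rot1_10r : band (Rule.ok (2 * 0) EX RL ⟨1 :: [5, 6, 2, 4, 3], [5], 5, false⟩) (lall (memL L) [5, 6, 2, 4, 3]) = true := by decide +kernel

theorem rot1_11 : T.rot 1 [2, 6, 1, 2, 6] (sel (ones 128) ip1 11) = true := by decide +kernel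

theorem rot1_11r : band (Rule.ok (2 * 0) EX RL ⟨1 :: [2, 6, 1, 2, 6], [], 6, true⟩) (lall (memL L) [2, 6, 1, 2, 6]) = true := by decide +kernel

theorem cov1 : T.cover 1 [(sel (ones 128) ip1 1), (sel (ones 128) ip1 2), (sel (ones 128) ip1 3), (sel (ones 128) ip1 4), (sel (ones 128) ip1 5), (sel (ones 128) ip1 6), (sel (ones 128) ip1 7), (sel (ones 128) ip1 8), (sel (ones 128) ip1 9), (sel (ones 128) ip1 10), (sel (ones 128) ip1 11)] = true := by decide +kernel

theorem tl1 : T.treeLt 7 1 = true := by decide +kernel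

theorem rot2_1 : T.rot 2 [5] (sel (ones 128) ip2 1) = true := by decide +kernel

theorem rot2_1r : band (Rule.ok (2 * 0) EX RL ⟨2 :: [5], [], 8, false⟩) (lall (memL L) [5]) = true := by decide +kernel

theorem rot2_2 : T.rot 2 [2, 2, 2] (sel (ones 128) ip2 2) = true := by decide +kernel

theorem rot2_2r : band (Rule.ok (2 * 0) EX RL ⟨2 :: [2, 2, 2], [], 4, true⟩) (lall (memL L) [2, 2, 2]) = true := by decide +kernel

theorem rot2_3 : T.rot 2 [3, 2, 3, 1, 1] (sel (ones 128) ip2 3) = true := by decide +kernel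

theorem rot2_3r : band (Rule.ok (2 * 0) EX RL ⟨2 :: [3, 2, 3, 1, 1], [1, 1], 1, true⟩) (lall (memL L) [3, 2, 3, 1, 1]) = true := by decide +kernel

theorem rot2_4 : T.rot 2 [3, 1, 1, 2, 3] (sel (ones 128) ip2 4) = true := by decide +kernel

theorem rot2_4r : band (Rule.ok (2 * 0) EX RL ⟨2 :: [3, 1, 1, 2, 3], [4, 2], 1, true⟩) (lall (memL L) [3, 1, 1, 2, 3]) = true := by decide +kernel

theorem rot2_5 : T.rot 2 [6, 2, 6, 1, 1] (sel (ones 128) ip2 5) = true := by decide +kernel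

theorem rot2_5r : band (Rule.ok (2 * 0) EX RL ⟨2 :: [6, 2, 6, 1, 1], [1, 1], 2, true⟩) (lall (memL L) [6, 2, 6, 1, 1]) = true := by decide +kernel

theorem rot2_6 : T.rot 2 [6, 1, 1, 2, 6] (sel (ones 128) ip2 6) = true := by decide +kernel

theorem rot2_6r : band (Rule.ok (2 * 0) EX RL ⟨2 :: [6, 1, 1, 2, 6], [5, 2], 2, true⟩) (lall (memL L) [6, 1, 1, 2, 6]) = true := by decide +kernel

theorem rot2_7 : T.rot 2 [6, 5, 1, 3, 4] (sel (ones 128) ip2 7) = true := by decide +kernel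

theorem rot2_7r : band (Rule.ok (2 * 0) EX RL ⟨2 :: [6, 5, 1, 3, 4], [3, 5, 2], 3, true⟩) (lall (memL L) [6, 5, 1, 3, 4]) = true := by decide +kernel

theorem rot2_8 : T.rot 2 [3, 5, 1, 6, 4] (sel (ones 128) ip2 8) = true := by decide +kernel

theorem rot2_8r : band (Rule.ok (2 * 0) EX RL ⟨2 :: [3, 5, 1, 6, 4], [], 3, false⟩) (lall (memL L) [3, 5, 1, 6, 4]) = true := by decide +kernel

theorem rot2_9 : T.rot 2 [4, 6, 1, 5, 3] (sel (ones 128) ip2 9) = true := by decide +kernel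

theorem rot2_9r : band (Rule.ok (2 * 0) EX RL ⟨2 :: [4, 6, 1, 5, 3], [5, 1, 2], 5, true⟩) (lall (memL L) [4, 6, 1, 5, 3]) = true := by decide +kernel

theorem rot2_10 : T.rot 2 [4, 3, 1, 5, 6] (sel (ones 128) ip2 10) = true := by decide +kernel

theorem rot2_10r : band (Rule.ok (2 * 0) EX RL ⟨2 :: [4, 3, 1, 5, 6], [1, 2], 5, false⟩) (lall (memL L) [4, 3, 1, 5, 6]) = true := by decide +kernel

theorem rot2_11 : T.rot 2 [6, 1, 2, 6, 1] (sel (ones 128) ip2 11) = true := by decide +kernel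

theorem rot2_11r : band (Rule.ok (2 * 0) EX RL ⟨2 :: [6, 1, 2, 6, 1], [1], 6, true⟩) (lall (memL L) [6, 1, 2, 6, 1]) = true := by decide +kernel

theorem cov2 : T.cover 2 [(sel (ones 128) ip2 1), (sel (ones 128) ip2 2), (sel (ones 128) ip2 3), (sel (ones 128) ip2 4), (sel (ones 128) ip2 5), (sel (ones 128) ip2 6), (sel (ones 128) ip2 7), (sel (ones 128) ip2 8), (sel (ones 128) ip2 9), (sel (ones 128) ip2 10), (sel (ones 128) ip2 11)] = true := by decide +kernel

theorem tl2 : T.treeLt 7 2 = true := by decide +kernel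

theorem rot3_1 : T.rot 3 [6] (sel (ones 128) ip3 1) = true := by decide +kernel

theorem rot3_1r : band (Rule.ok (2 * 0) EX RL ⟨3 :: [6], [], 8, false⟩) (lall (memL L) [6]) = true := by decide +kernel

theorem rot3_2 : T.rot 3 [3, 3, 3] (sel (ones 128) ip3 2) = true := by decide +kernel

theorem rot3_2r : band (Rule.ok (2 * 0) EX RL ⟨3 :: [3, 3, 3], [], 7, true⟩) (lall (memL L) [3, 3, 3]) = true := by decide +kernel

theorem rot3_3 : T.rot 3 [2, 3, 1, 1, 2] (sel (ones 128) ip3 3) = true := by decide +kernel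

theorem rot3_3r : band (Rule.ok (2 * 0) EX RL ⟨3 :: [2, 3, 1, 1, 2], [4, 2, 4], 1, true⟩) (lall (memL L) [2, 3, 1, 1, 2]) = true := by decide +kernel

theorem rot3_4 : T.rot 3 [1, 1, 2, 3, 2] (sel (ones 128) ip3 4) = true := by decide +kernel

theorem rot3_4r : band (Rule.ok (2 * 0) EX RL ⟨3 :: [1, 1, 2, 3, 2], [4], 1, true⟩) (lall (memL L) [1, 1, 2, 3, 2]) = true := by decide +kernel

theorem rot3_5 : T.rot 3 [5, 3, 5, 4, 4] (sel (ones 128) ip3 5) = true := by decide +kernel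

theorem rot3_5r : band (Rule.ok (2 * 0) EX RL ⟨3 :: [5, 3, 5, 4, 4], [], 2, false⟩) (lall (memL L) [5, 3, 5, 4, 4]) = true := by decide +kernel

theorem rot3_6 : T.rot 3 [5, 4, 4, 3, 5] (sel (ones 128) ip3 6) = true := by decide +kernel

theorem rot3_6r : band (Rule.ok (2 * 0) EX RL ⟨3 :: [5, 4, 4, 3, 5], [5, 2], 2, false⟩) (lall (memL L) [5, 4, 4, 3, 5]) = true := by decide +kernel

theorem rot3_7 : T.rot 3 [4, 2, 6, 5, 1] (sel (ones 128) ip3 7) = true := by decide +kernel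

theorem rot3_7r : band (Rule.ok (2 * 0) EX RL ⟨3 :: [4, 2, 6, 5, 1], [1], 3, true⟩) (lall (memL L) [4, 2, 6, 5, 1]) = true := by decide +kernel

theorem rot3_8 : T.rot 3 [2, 4, 6, 1, 5] (sel (ones 128) ip3 8) = true := by decide +kernel

theorem rot3_8r : band (Rule.ok (2 * 0) EX RL ⟨3 :: [2, 4, 6, 1, 5], [1, 2], 5, true⟩) (lall (memL L) [2, 4, 6, 1, 5]) = true := by decide +kernel

theorem rot3_9 : T.rot 3 [1, 5, 6, 2, 4] (sel (ones 128) ip3 9) = true := by decide +kernel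

theorem rot3_9r : band (Rule.ok (2 * 0) EX RL ⟨3 :: [1, 5, 6, 2, 4], [], 5, false⟩) (lall (memL L) [1, 5, 6, 2, 4]) = true := by decide +kernel

theorem rot3_10 : T.rot 3 [5, 4, 3, 5, 4] (sel (ones 128) ip3 10) = true := by decide +kernel

theorem rot3_10r : band (Rule.ok (2 * 0) EX RL ⟨3 :: [5, 4, 3, 5, 4], [], 6, false⟩) (lall (memL L) [5, 4, 3, 5, 4]) = true := by decide +kernel

theorem cov3 : T.cover 3 [(sel (ones 128) ip3 1), (sel (ones 128) ip3 2), (sel (ones 128) ip3 3), (sel (ones 128) ip3 4), (sel (ones 128) ip3 5), (sel (ones 128) ip3 6), (sel (ones 128) ip3 7), (sel (ones 128) ip3 8), (sel (ones 128) ip3 9), (sel (ones 128) ip3 10)] = true := by decide +kernel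

theorem tl3 : T.treeLt 7 3 = true := by decide +kernel

theorem rot4_1 : T.rot 4 [1] (sel (ones 128) ip4 1) = true := by decide +kernel

theorem rot4_1r : band (Rule.ok (2 * 0) EX RL ⟨4 :: [1], [], 8, false⟩) (lall (memL L) [1]) = true := by decide +kernel

theorem rot4_2 : T.rot 4 [4, 4, 4] (sel (ones 128) ip4 2) = true := by decide +kernel

theorem rot4_2r : band (Rule.ok (2 * 0) EX RL ⟨4 :: [4, 4, 4], [], 0, false⟩) (lall (memL L) [4, 4, 4]) = true := by decide +kernel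

theorem rot4_3 : T.rot 4 [4, 6, 5, 6, 5] (sel (ones 128) ip4 3) = true := by decide +kernel

theorem rot4_3r : band (Rule.ok (2 * 0) EX RL ⟨4 :: [4, 6, 5, 6, 5], [1, 1], 1, false⟩) (lall (memL L) [4, 6, 5, 6, 5]) = true := by decide +kernel

theorem rot4_4 : T.rot 4 [6, 5, 6, 5, 4] (sel (ones 128) ip4 4) = true := by decide +kernel

theorem rot4_4r : band (Rule.ok (2 * 0) EX RL ⟨4 :: [6, 5, 6, 5, 4], [1], 1, false⟩) (lall (memL L) [6, 5, 6, 5, 4]) = true := by decide +kernel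

theorem rot4_5 : T.rot 4 [4, 3, 5, 3, 5] (sel (ones 128) ip4 5) = true := by decide +kernel

theorem rot4_5r : band (Rule.ok (2 * 0) EX RL ⟨4 :: [4, 3, 5, 3, 5], [1, 1], 2, false⟩) (lall (memL L) [4, 3, 5, 3, 5]) = true := by decide +kernel

theorem rot4_6 : T.rot 4 [3, 5, 3, 5, 4] (sel (ones 128) ip4 6) = true := by decide +kernel

theorem rot4_6r : band (Rule.ok (2 * 0) EX RL ⟨4 :: [3, 5, 3, 5, 4], [1], 2, false⟩) (lall (memL L) [3, 5, 3, 5, 4]) = true := by decide +kernel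

theorem rot4_7 : T.rot 4 [2, 6, 5, 1, 3] (sel (ones 128) ip4 7) = true := by decide +kernel

theorem rot4_7r : band (Rule.ok (2 * 0) EX RL ⟨4 :: [2, 6, 5, 1, 3], [1, 5], 3, true⟩) (lall (memL L) [2, 6, 5, 1, 3]) = true := by decide +kernel

theorem rot4_8 : T.rot 4 [2, 3, 5, 1, 6] (sel (ones 128) ip4 8) = true := by decide +kernel

theorem rot4_8r : band (Rule.ok (2 * 0) EX RL ⟨4 :: [2, 3, 5, 1, 6], [1], 3, false⟩) (lall (memL L) [2, 3, 5, 1, 6]) = true := by decide +kernel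

theorem rot4_9 : T.rot 4 [6, 1, 5, 3, 2] (sel (ones 128) ip4 9) = true := by decide +kernel

theorem rot4_9r : band (Rule.ok (2 * 0) EX RL ⟨4 :: [6, 1, 5, 3, 2], [5, 1], 5, true⟩) (lall (memL L) [6, 1, 5, 3, 2]) = true := by decide +kernel

theorem rot4_10 : T.rot 4 [3, 1, 5, 6, 2] (sel (ones 128) ip4 10) = true := by decide +kernel

theorem rot4_10r : band (Rule.ok (2 * 0) EX RL ⟨4 :: [3, 1, 5, 6, 2], [1], 5, false⟩) (lall (memL L) [3, 1, 5, 6, 2]) = true := by decide +kernel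

theorem rot4_11 : T.rot 4 [3, 5, 4, 3, 5] (sel (ones 128) ip4 11) = true := by decide +kernel

theorem rot4_11r : band (Rule.ok (2 * 0) EX RL ⟨4 :: [3, 5, 4, 3, 5], [1], 6, false⟩) (lall (memL L) [3, 5, 4, 3, 5]) = true := by decide +kernel

theorem cov4 : T.cover 4 [(sel (ones 128) ip4 1), (sel (ones 128) ip4 2), (sel (ones 128) ip4 3), (sel (ones 128) ip4 4), (sel (ones 128) ip4 5), (sel (ones 128) ip4 6), (sel (ones 128) ip4 7), (sel (ones 128) ip4 8), (sel (ones 128) ip4 9), (sel (ones 128) ip4 10), (sel (ones 128) ip4 11)] = true := by decide +kernel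

theorem tl4 : T.treeLt 7 4 = true := by decide +kernel

theorem rot5_1 : T.rot 5 [2] (sel (ones 128) ip5 1) = true := by decide +kernel

theorem rot5_1r : band (Rule.ok (2 * 0) EX RL ⟨5 :: [2], [], 8, false⟩) (lall (memL L) [2]) = true := by decide +kernel

theorem rot5_2 : T.rot 5 [5, 5, 5] (sel (ones 128) ip5 2) = true := by decide +kernel

theorem rot5_2r : band (Rule.ok (2 * 0) EX RL ⟨5 :: [5, 5, 5], [], 4, false⟩) (lall (memL L) [5, 5, 5]) = true := by decide +kernel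

theorem rot5_3 : T.rot 5 [6, 5, 4, 4, 6] (sel (ones 128) ip5 3) = true := by decide +kernel

theorem rot5_3r : band (Rule.ok (2 * 0) EX RL ⟨5 :: [6, 5, 4, 4, 6], [4], 1, false⟩) (lall (memL L) [6, 5, 4, 4, 6]) = true := by decide +kernel

theorem rot5_4 : T.rot 5 [4, 4, 6, 5, 6] (sel (ones 128) ip5 4) = true := by decide +kernel

theorem rot5_4r : band (Rule.ok (2 * 0) EX RL ⟨5 :: [4, 4, 6, 5, 6], [1, 1, 3], 1, false⟩) (lall (memL L) [4, 4, 6, 5, 6]) = true := by decide +kernel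

theorem rot5_5 : T.rot 5 [3, 5, 4, 4, 3] (sel (ones 128) ip5 5) = true := by decide +kernel

theorem rot5_5r : band (Rule.ok (2 * 0) EX RL ⟨5 :: [3, 5, 4, 4, 3], [5], 2, false⟩) (lall (memL L) [3, 5, 4, 4, 3]) = true := by decide +kernel

theorem rot5_6 : T.rot 5 [4, 4, 3, 5, 3] (sel (ones 128) ip5 6) = true := by decide +kernel

theorem rot5_6r : band (Rule.ok (2 * 0) EX RL ⟨5 :: [4, 4, 3, 5, 3], [1, 1, 3], 2, false⟩) (lall (memL L) [4, 4, 3, 5, 3]) = true := by decide +kernel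

theorem rot5_7 : T.rot 5 [1, 3, 4, 2, 6] (sel (ones 128) ip5 7) = true := by decide +kernel

theorem rot5_7r : band (Rule.ok (2 * 0) EX RL ⟨5 :: [1, 3, 4, 2, 6], [3], 3, true⟩) (lall (memL L) [1, 3, 4, 2, 6]) = true := by decide +kernel

theorem rot5_8 : T.rot 5 [1, 6, 4, 2, 3] (sel (ones 128) ip5 8) = true := by decide +kernel

theorem rot5_8r : band (Rule.ok (2 * 0) EX RL ⟨5 :: [1, 6, 4, 2, 3], [3, 5], 3, false⟩) (lall (memL L) [1, 6, 4, 2, 3]) = true := by decide +kernel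

theorem rot5_9 : T.rot 5 [3, 2, 4, 6, 1] (sel (ones 128) ip5 9) = true := by decide +kernel

theorem rot5_9r : band (Rule.ok (2 * 0) EX RL ⟨5 :: [3, 2, 4, 6, 1], [1], 5, true⟩) (lall (memL L) [3, 2, 4, 6, 1]) = true := by decide +kernel

theorem rot5_10 : T.rot 5 [6, 2, 4, 3, 1] (sel (ones 128) ip5 10) = true := by decide +kernel

theorem rot5_10r : band (Rule.ok (2 * 0) EX RL ⟨5 :: [6, 2, 4, 3, 1], [5, 1], 5, false⟩) (lall (memL L) [6, 2, 4, 3, 1]) = true := by decide +kernel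

theorem rot5_11 : T.rot 5 [4, 3, 5, 4, 3] (sel (ones 128) ip5 11) = true := by decide +kernel

theorem rot5_11r : band (Rule.ok (2 * 0) EX RL ⟨5 :: [4, 3, 5, 4, 3], [5], 6, false⟩) (lall (memL L) [4, 3, 5, 4, 3]) = true := by decide +kernel

theorem cov5 : T.cover 5 [(sel (ones 128) ip5 1), (sel (ones 128) ip5 2), (sel (ones 128) ip5 3), (sel (ones 128) ip5 4), (sel (ones 128) ip5 5), (sel (ones 128) ip5 6), (sel (ones 128) ip5 7), (sel (ones 128) ip5 8), (sel (ones 128) ip5 9), (sel (ones 128) ip5 10), (sel (ones 128) ip5 11)] = true := by decide +kernel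

theorem tl5 : T.treeLt 7 5 = true := by decide +kernel

theorem rot6_1 : T.rot 6 [3] (sel (ones 128) ip6 1) = true := by decide +kernel

theorem rot6_1r : band (Rule.ok (2 * 0) EX RL ⟨6 :: [3], [], 8, false⟩) (lall (memL L) [3]) = true := by decide +kernel

theorem rot6_2 : T.rot 6 [6, 6, 6] (sel (ones 128) ip6 2) = true := by decide +kernel

theorem rot6_2r : band (Rule.ok (2 * 0) EX RL ⟨6 :: [6, 6, 6], [], 7, false⟩) (lall (memL L) [6, 6, 6]) = true := by decide +kernel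

theorem rot6_3 : T.rot 6 [5, 6, 5, 4, 4] (sel (ones 128) ip6 3) = true := by decide +kernel

theorem rot6_3r : band (Rule.ok (2 * 0) EX RL ⟨6 :: [5, 6, 5, 4, 4], [], 1, false⟩) (lall (memL L) [5, 6, 5, 4, 4]) = true := by decide +kernel

theorem rot6_4 : T.rot 6 [5, 4, 4, 6, 5] (sel (ones 128) ip6 4) = true := by decide +kernel

theorem rot6_4r : band (Rule.ok (2 * 0) EX RL ⟨6 :: [5, 4, 4, 6, 5], [4, 2], 1, false⟩) (lall (memL L) [5, 4, 4, 6, 5]) = true := by decide +kernel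

theorem rot6_5 : T.rot 6 [2, 6, 1, 1, 2] (sel (ones 128) ip6 5) = true := by decide +kernel

theorem rot6_5r : band (Rule.ok (2 * 0) EX RL ⟨6 :: [2, 6, 1, 1, 2], [5, 2, 5], 2, true⟩) (lall (memL L) [2, 6, 1, 1, 2]) = true := by decide +kernel

theorem rot6_6 : T.rot 6 [1, 1, 2, 6, 2] (sel (ones 128) ip6 6) = true := by decide +kernel

theorem rot6_6r : band (Rule.ok (2 * 0) EX RL ⟨6 :: [1, 1, 2, 6, 2], [5], 2, true⟩) (lall (memL L) [1, 1, 2, 6, 2]) = true := by decide +kernel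

theorem rot6_7 : T.rot 6 [4, 2, 3, 5, 1] (sel (ones 128) ip6 7) = true := by decide +kernel

theorem rot6_7r : band (Rule.ok (2 * 0) EX RL ⟨6 :: [4, 2, 3, 5, 1], [1, 5], 3, false⟩) (lall (memL L) [4, 2, 3, 5, 1]) = true := by decide +kernel

theorem rot6_8 : T.rot 6 [1, 5, 3, 2, 4] (sel (ones 128) ip6 8) = true := by decide +kernel

theorem rot6_8r : band (Rule.ok (2 * 0) EX RL ⟨6 :: [1, 5, 3, 2, 4], [5], 5, true⟩) (lall (memL L) [1, 5, 3, 2, 4]) = true := by decide +kernel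

theorem rot6_9 : T.rot 6 [2, 4, 3, 1, 5] (sel (ones 128) ip6 9) = true := by decide +kernel

theorem rot6_9r : band (Rule.ok (2 * 0) EX RL ⟨6 :: [2, 4, 3, 1, 5], [1, 2, 5], 5, false⟩) (lall (memL L) [2, 4, 3, 1, 5]) = true := by decide +kernel

theorem rot6_10 : T.rot 6 [1, 2, 6, 1, 2] (sel (ones 128) ip6 10) = true := by decide +kernel

theorem rot6_10r : band (Rule.ok (2 * 0) EX RL ⟨6 :: [1, 2, 6, 1, 2], [5], 6, true⟩) (lall (memL L) [1, 2, 6, 1, 2]) = true := by decide +kernel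

theorem cov6 : T.cover 6 [(sel (ones 128) ip6 1), (sel (ones 128) ip6 2), (sel (ones 128) ip6 3), (sel (ones 128) ip6 4), (sel (ones 128) ip6 5), (sel (ones 128) ip6 6), (sel (ones 128) ip6 7), (sel (ones 128) ip6 8), (sel (ones 128) ip6 9), (sel (ones 128) ip6 10)] = true := by decide +kernel

theorem tl6 : T.treeLt 7 6 = true := by decide +kernel

end Cfsg.Agent.Spor.Tid
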