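import Cfsg.Agent.Spor.Chk

set_option autoImplicit false
set_option maxRecDepth 100000000
set_option Elab.async false
noncomputable section

namespace Cfsg.Agent.Spor.Tid

def m0_0 : Nat := nat_lit 0x770850ec292a3373
def m0_1 : Nat := nat_lit 0xe0126c00000000a819994b
def m0_2 : Nat := nat_lit 0xa2c700007f420000d00400007ae0
def m0_3 : Nat := nat_lit 0x28003800e4001800510012004700b7
def m0_4 : Nat := nat_lit 0xe0d0a050a04010109050a08060c0101
def m0_5 : Nat := nat_lit 0x21022010322121023000033223322222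
def m0_6 : Nat := nat_lit 0x51111114054544405411501550541440
def m0_7 : Nat := nat_lit 0x1011201001010000120000000010110
def m0_8 : Nat := nat_lit 0x104030801040a060402000208080a01
def m0_9 : Nat := nat_lit 0xaa0042001800800010004b00190042
def m0_10 : Nat := nat_lit 0x74c1000007650000a25b00000e27
def m0_11 : Nat := nat_lit 0x912e3226000000003a9d0100
def m0_12 : Nat := nat_lit 0x94317e2d3a86119d
def n0 : Net := Net.cons 64 m0_0 (Net.cons 32 m0_1 (Net.cons 16 m0_2 (Net.cons 8 m0_3 (Net.cons 4 m0_4 (Net.cons 2 m0_5 (Net.cons 1 m0_6 (Net.cons 2 m0_7 (Net.cons 4 m0_8 (Net.cons 8 m0_9 (Net.cons 16 m0_10 (Net.cons 32 m0_11 (Net.cons 64 m0_12 (Net.nil)))))))))))))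

def m1_0 : Nat := nat_lit 0x12c34a094fe803e8
def m1_1 : Nat := nat_lit 0x20b285b50000000020b50090
def m1_2 : Nat := nat_lit 0xb44d000018480000488000002707
def m1_3 : Nat := nat_lit 0x80055002d004000c2009a00000020
def m1_4 : Nat := nat_lit 0x90b0e080c00000c0c030c0507080100
def m1_5 : Nat := nat_lit 0x32202112003033123032022203300120
def m1_6 : Nat := nat_lit 0x14441401151040145405445144111014
def m1_7 : Nat := nat_lit 0x1120000200000000200210100012000
def m1_8 : Nat := nat_lit 0x3020005000e080100020301020a0809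
def m1_9 : Nat := nat_lit 0x700a8002c00770001004a00cc0089
def m1_10 : Nat := nat_lit 0x570800002d470000050c00002ce7
def m1_11 : Nat := nat_lit 0x3949b90a00000000a582f288
def m1_12 : Nat := nat_lit 0x830d9512eef93012
def n1 : Net := Net.cons 64 m1_0 (Net.cons 32 m1_1 (Net.cons 16 m1_2 (Net.cons 8 m1_3 (Net.cons 4 m1_4 (Net.cons 2 m1_5 (Net.cons 1 m1_6 (Net.cons 2 m1_7 (Net.cons 4 m1_8 (Net.cons 8 m1_9 (Net.cons 16 m1_10 (Net.cons 32 m1_11 (Net.cons 64 m1_12 (Net.nil)))))))))))))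

def m2_0 : Nat := nat_lit 0xff246d2bd9000aa1
def m2_1 : Nat := nat_lit 0x8ad5d0c00000000d611ee90
def m2_2 : Nat := nat_lit 0xc32b0000831f0000c0df00001904
def m2_3 : Nat := nat_lit 0x1005000c2008300be003200710082
def m2_4 : Nat := nat_lit 0x80c00010a0502080d0600000900050c
def m2_5 : Nat := nat_lit 0x31121202303130033021120000211230
def m2_6 : Nat := nat_lit 0x5444410500005415140154041100115
def m2_7 : Nat := nat_lit 0x110000000000000102011000000
def m2_8 : Nat := nat_lit 0x4020e07000800010102030802000201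
def m2_9 : Nat := nat_lit 0x32008c0018006200240098000400d4
def m2_10 : Nat := nat_lit 0x67000029c30000205d0000f69e
def m2_11 : Nat := nat_lit 0x96489e28000000000a749544
def m2_12 : Nat := nat_lit 0xed40202d719403e2
def n2 : Net := Net.cons 64 m2_0 (Net.cons 32 m2_1 (Net.cons 16 m2_2 (Net.cons 8 m2_3 (Net.cons 4 m2_4 (Net.cons 2 m2_5 (Net.cons 1 m2_6 (Net.cons 2 m2_7 (Net.cons 4 m2_8 (Net.cons 8 m2_9 (Net.cons 16 m2_10 (Net.cons 32 m2_11 (Net.cons 64 m2_12 (Net.nil)))))))))))))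

def cl1 : Nat := nat_lit 0xffffffffffffffffffffffffffffffff
def tt1 : Nat := nat_lit 0x1800124889084044911084044021082
def tm1_0 : Nat := nat_lit 0xea75f65a6d665349344d62033d71c010
def tm1_1 : Nat := nat_lit 0xbfabbf9d9a032d1fc3b31400c5290080
def tm1_2 : Nat := nat_lit 0xb22fd6b95325afa6aeaab102a8484000
def tm1_3 : Nat := nat_lit 0x800000000000000000000
def ip1_0 : Nat := nat_lit 0xe6579ed32668737bb46e770119798010
def ip1_1 : Nat := nat_lit 0x1dafffbd9a2ea53d67bb950065200080
def ip1_2 : Nat := nat_lit 0x82219281822824082c12010041410000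
def ip1_3 : Nat := nat_lit 0x300c441851050aa282083402a8284000
def ip1 : List Nat := [ip1_0, ip1_1, ip1_2, ip1_3]
def l1 : Let := ⟨0, false, cl1, tt1, [tm1_0, tm1_1, tm1_2, tm1_3]⟩

def cl2 : Nat := nat_lit 0xffffffffffffffffffffffffffffffff
def tt2 : Nat := nat_lit 0x2020209012108088220108480442104
def tm2_0 : Nat := nat_lit 0xac7de2b4224ffce3a4a0b0120161c420
def tm2_1 : Nat := nat_lit 0x13105f0adc35bf3ec25f45807c096000
def tm2_2 : Nat := nat_lit 0x16d01c6d2b5047771325320194588000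
def tm2_3 : Nat := nat_lit 0x40020000000000000000000000000000
def ip2_0 : Nat := nat_lit 0xbbedb5f4b41a34857796c2125d308420
def ip2_1 : Nat := nat_lit 0x15104f6dcd25df3dd0395680f451a000
def ip2_2 : Nat := nat_lit 0x40c20040261050421104670004594000
def ip2_3 : Nat := nat_lit 0x2101402d0402104025b000168008000
def ip2 : List Nat := [ip2_0, ip2_1, ip2_2, ip2_3]
def l2 : Let := ⟨1, false, cl2, tt2, [tm2_0, tm2_1, tm2_2, tm2_3]⟩

def cl3 : Nat := nat_lit 0xffffffffffffffffffffffffffffffff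
def tt3 : Nat := nat_lit 0x14004800120420110002210808884208
def tm3_0 : Nat := nat_lit 0x55ebfd9150fa9bbae4fbcd236a510840
def tm3_1 : Nat := nat_lit 0xeff1ab88828bb49c6200e80608784000
def tm3_2 : Nat := nat_lit 0xfadfe2ff9c7fec45fff303c1c480f000
def ip3_0 : Nat := nat_lit 0x8e5a5c645cc233771b094d242ed10840
def ip3_1 : Nat := nat_lit 0xc30e63b01a516884aef3e247cc78d000
def ip3_2 : Nat := nat_lit 0x1c8408ad08ea8c952901c8c004303000
def ip3_3 : Nat := nat_lit 0x61718142841450485000030000808000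
def ip3 : List Nat := [ip3_0, ip3_1, ip3_2, ip3_3]
def l3 : Let := ⟨2, false, cl3, tt3, [tm3_0, tm3_1, tm3_2, 0x0]⟩

def cl4 : Nat := nat_lit 0xffffffffffffffffffffffffffffffff
def tt4 : Nat := nat_lit 0x40500042244050401044420110108010
def tm4_0 : Nat := nat_lit 0xf7925de68a999fb67bd99d4146061082
def tm4_1 : Nat := nat_lit 0xee382adb754e73522666e601ba30c010
def tm4_2 : Nat := nat_lit 0xf27e5699532d79e336aa3102a8454000
def tm4_3 : Nat := nat_lit 0x8000000000000000000000000000
def ip4_0 : Nat := nat_lit 0x19ac61ad99befdc669999c4044665082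
def ip4_1 : Nat := nat_lit 0x44568a92564168d130e8d60100758010
def ip4_2 : Nat := nat_lit 0x4830a04071023120000c310030414000
def ip4_3 : Nat := nat_lit 0xb20e5699022d0a82262284028a240000
def ip4 : List Nat := [ip4_0, ip4_1, ip4_2, ip4_3]
def l4 : Let := ⟨0, true, cl4, tt4, [tm4_0, tm4_1, tm4_2, tm4_3]⟩

def cl5 : Nat := nat_lit 0xffffffffffffffffffffffffffffffff
def tt5 : Nat := nat_lit 0xa82da090000a00802480801201200420
def tm5_0 : Nat := nat_lit 0x8b1aa31b0de32a59962030af85542104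
def tm5_1 : Nat := nat_lit 0x3979f582e4dec5a220190d3a62a34420
def tm5_2 : Nat := nat_lit 0xa4719cf0aa5a73f334c1e00105100000
def tm5_3 : Nat := nat_lit 0x40040000000000000000000000000000
def ip5_0 : Nat := nat_lit 0x1202461989778bd9823194acc6c52104
def ip5_1 : Nat := nat_lit 0xb949f1e2ac8c77e12441cc3106330420
def ip5_2 : Nat := nat_lit 0x301470404820401408840821810000
def ip5_3 : Nat := nat_lit 0x54444800829684b30090290240024000
def ip5 : List Nat := [ip5_0, ip5_1, ip5_2, ip5_3]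
def l5 : Let := ⟨1, true, cl5, tt5, [tm5_0, tm5_1, tm5_2, tm5_3]⟩

def cl6 : Nat := nat_lit 0xffffffffffffffffffffffffffffffff
def tt6 : Nat := nat_lit 0x1400400003220008042022010840
def tm6_0 : Nat := nat_lit 0x74f3dcfd1e8fbf974ba223c8bcc9f208
def tm6_1 : Nat := nat_lit 0xe971a1f920fa46806aa500a6a1402840
def tm6_2 : Nat := nat_lit 0xebffb786edf3dd6ef55d964157019000
def ip6_0 : Nat := nat_lit 0xb557c93493aeb015ec52b54d29c84208
def ip6_1 : Nat := nat_lit 0x378162dcc308f260a7d84e1d500b840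
def ip6_2 : Nat := nat_lit 0xaa82222121e1048489e09687e1402000
def ip6_3 : Nat := nat_lit 0x402d81da400a58487608000002010000
def ip6 : List Nat := [ip6_0, ip6_1, ip6_2, ip6_3]
def l6 : Let := ⟨2, true, cl6, tt6, [tm6_0, tm6_1, tm6_2, 0x0]⟩

def NT : List Net := [n0, n1, n2]
def LT : List Let := [⟨0, false, 0, 0, []⟩, l1, l2, l3, l4, l5, l6]
def T : Tab := ⟨NT, LT⟩
def EX : List (List Nat) := [[], [0], [2], [4], [1], [3], [5]]
def RL : List (List Nat) := [[0, 0, 0, 0], [4, 2, 4, 2, 0, 0], [5, 2, 5, 2, 0, 0], [3, 5, 2, 1, 4, 0], [2, 2, 2, 2], [5, 1, 2, 4, 3, 0], [5, 2, 0, 5, 2, 0], [4, 4, 4, 4]]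
def XL : List (List Nat) := []
def BW : List (List Nat) := []
def IV : Nat := 0x3020106050400
def L : List Nat := [1, 2, 3, 4, 5, 6]
def gs : List Nat := [1, 2, 3]
def base : List Nat := []

end Cfsg.Agent.Spor.Tid
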